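import Groth.Agent.StageDescentLib.Basic

/-! Stage descent for iterated tensor products `(B₀ ⊗ G i) ⊗[B₀] M`. -/

set_option autoImplicit false
set_option maxHeartbeats 400000

universe u

open scoped TensorProduct

namespace StageDescentLib

variable {ι : Type u} [Preorder ι] [IsDirected ι (· ≤ ·)] [Nonempty ι]
    (A₀ : Type u) [CommRing A₀] {G : ι → Type u} [∀ i, CommRing (G i)] [∀ i, Algebra A₀ (G i)]
    (f : ∀ i j, i ≤ j → (G i →ₐ[A₀] G j)) {A : Type u} [CommRing A] [Algebra A₀ A]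
    (g : ∀ i, G i →ₐ[A₀] A) (hg : ∀ i j (h : i ≤ j), (g j).comp (f i j h) = g i)
    (hsurj : ∀ a : A, ∃ i, ∃ x : G i, g i x = a)
    (hker : ∀ i (x : G i), g i x = 0 → ∃ j, ∃ h : i ≤ j, f i j h x = 0)
    (B₀ : Type u) [CommRing B₀] [Algebra A₀ B₀]
    (M : Type u) [AddCommGroup M] [Module A₀ M] [Module B₀ M] [IsScalarTower A₀ B₀ M]

/-- `(B₀ ⊗ X) ⊗[B₀] M ≅ M ⊗ X`. -/
noncomputable def dequiv (X : Type u) [CommRing X] [Algebra A₀ X] :
    ((B₀ ⊗[A₀] X) ⊗[B₀] M) ≃ₗ[B₀] M ⊗[A₀] X :=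
  (TensorProduct.comm B₀ (B₀ ⊗[A₀] X) M).trans
    (TensorProduct.AlgebraTensorModule.cancelBaseChange A₀ B₀ B₀ M X)

/-- Functoriality in `X`. -/
noncomputable def dmap {X Y : Type u} [CommRing X] [Algebra A₀ X] [CommRing Y] [Algebra A₀ Y]
    (χ : X →ₐ[A₀] Y) : ((B₀ ⊗[A₀] X) ⊗[B₀] M) →ₗ[B₀] (B₀ ⊗[A₀] Y) ⊗[B₀] M :=
  (bmap A₀ B₀ χ).toLinearMap.rTensor M

lemma dequiv_dmap {X Y : Type u} [CommRing X] [Algebra A₀ X] [CommRing Y] [Algebra A₀ Y]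
    (χ : X →ₐ[A₀] Y) (x : (B₀ ⊗[A₀] X) ⊗[B₀] M) :
    dequiv A₀ B₀ M Y (dmap A₀ B₀ M χ x) = χ.toLinearMap.lTensor M (dequiv A₀ B₀ M X x) := by
  induction x using TensorProduct.induction_on with
  | zero => simp
  | add a b ha hb => simp only [map_add, ha, hb]
  | tmul z m =>
    induction z using TensorProduct.induction_on with
    | zero => simp
    | add a b ha hb => simp only [TensorProduct.add_tmul, map_add, ha, hb]
    | tmul b a => simp [dequiv, dmap, bmap]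

omit [IsDirected ι (· ≤ ·)] [Nonempty ι] in
lemma dmap_comp {X Y Z : Type u} [CommRing X] [Algebra A₀ X] [CommRing Y] [Algebra A₀ Y]
    [CommRing Z] [Algebra A₀ Z] (ψ : Y →ₐ[A₀] Z) (χ : X →ₐ[A₀] Y) (x : (B₀ ⊗[A₀] X) ⊗[B₀] M) :
    dmap A₀ B₀ M ψ (dmap A₀ B₀ M χ x) = dmap A₀ B₀ M (ψ.comp χ) x := by
  refine (dequiv A₀ B₀ M Z).injective ?_
  rw [dequiv_dmap, dequiv_dmap, dequiv_dmap, AlgHom.comp_toLinearMap, LinearMap.lTensor_comp_apply]

lemma dmap_tmul {X Y : Type u} [CommRing X] [Algebra A₀ X] [CommRing Y] [Algebra A₀ Y]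
    (χ : X →ₐ[A₀] Y) (z : B₀ ⊗[A₀] X) (m : M) :
    dmap A₀ B₀ M χ (z ⊗ₜ m) = bmap A₀ B₀ χ z ⊗ₜ m := rfl

include hg hker hsurj in
/-- Finitely many elements vanishing in the limit are killed by one map of stages. -/
lemma double_kill {i : ι} (T : Finset ((B₀ ⊗[A₀] G i) ⊗[B₀] M))
    (hT : ∀ x ∈ T, dmap A₀ B₀ M (g i) x = 0) :
    ∃ (k : ι) (χ : G i →ₐ[A₀] G k), (g k).comp χ = g i ∧ ∀ x ∈ T, dmap A₀ B₀ M χ x = 0 := by
  classical
  induction T using Finset.induction_on with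
  | empty => exact ⟨i, AlgHom.id _ _, AlgHom.comp_id _, by simp⟩
  | insert a T _ ih =>
    obtain ⟨k, χ, hχ, hk⟩ := ih fun x hx => hT x (Finset.mem_insert_of_mem hx)
    obtain ⟨l, ψ, hψ, hl⟩ := tensor_kill A₀ f g hg hsurj hker M k (dequiv A₀ B₀ M (G k) (dmap A₀ B₀ M χ a)) (by
      rw [← dequiv_dmap, dmap_comp, hχ, hT a (Finset.mem_insert_self _ _), map_zero])
    refine ⟨l, ψ.comp χ, by rw [← AlgHom.comp_assoc, hψ, hχ], fun x hx => ?_⟩
    rw [← dmap_comp]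
    rcases Finset.mem_insert.mp hx with rfl | hx
    · refine (dequiv A₀ B₀ M (G l)).injective ?_
      rw [dequiv_dmap, hl, map_zero]
    · rw [hk x hx, map_zero]

include hg hsurj in
/-- Finitely many elements of `B₀ ⊗ A` come from one stage. -/
lemma bmap_surj_family {κ : Type*} [Finite κ] (p : κ → B₀ ⊗[A₀] A) :
    ∃ (i : ι) (q : κ → B₀ ⊗[A₀] G i), ∀ k, bmap A₀ B₀ (g i) (q k) = p k := by
  classical
  obtain ⟨i₀⟩ := ‹Nonempty ι›
  choose i hi q hq using fun k => tensor_surj A₀ f g hg hsurj B₀ (p k) i₀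
  haveI := Fintype.ofFinite κ
  obtain ⟨j, hj⟩ := Finset.exists_le (Finset.univ.image i)
  refine ⟨j, fun k => bmap A₀ B₀ (f (i k) j (hj _ (by simp))) (q k), fun k => ?_⟩
  rw [bmap_comp, hg, bmap_eq, hq]

include hg hker hsurj in
/-- Finitely many elements of a stage of `B₀ ⊗ A` vanishing in the limit die at one stage. -/
lemma bmap_kill {i : ι} (T : Finset (B₀ ⊗[A₀] G i)) (hT : ∀ x ∈ T, bmap A₀ B₀ (g i) x = 0) :
    ∃ (k : ι) (χ : G i →ₐ[A₀] G k), (g k).comp χ = g i ∧ ∀ x ∈ T, bmap A₀ B₀ χ x = 0 := by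
  classical
  obtain ⟨k, χ, hχ, hk⟩ := poly_kill A₀ f g hg hsurj hker B₀ (n := 0) (T.image MvPolynomial.C) (by
    intro p hp
    obtain ⟨x, hx, rfl⟩ := Finset.mem_image.mp hp
    simp [qmap, hT x hx])
  refine ⟨k, χ, hχ, fun x hx => ?_⟩
  have := hk _ (Finset.mem_image_of_mem _ hx)
  simpa [qmap] using this

section Algebra

variable (C₀ : Type u) [CommRing C₀] [Algebra A₀ C₀] [Algebra B₀ C₀] [IsScalarTower A₀ B₀ C₀]

/-- The algebra map version of `dmap`. -/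
noncomputable def cmap {X Y : Type u} [CommRing X] [Algebra A₀ X] [CommRing Y] [Algebra A₀ Y]
    (χ : X →ₐ[A₀] Y) : ((B₀ ⊗[A₀] X) ⊗[B₀] C₀) →ₐ[B₀] (B₀ ⊗[A₀] Y) ⊗[B₀] C₀ :=
  Algebra.TensorProduct.map (bmap A₀ B₀ χ) (AlgHom.id B₀ C₀)

lemma cmap_eq_dmap {X Y : Type u} [CommRing X] [Algebra A₀ X] [CommRing Y] [Algebra A₀ Y]
    (χ : X →ₐ[A₀] Y) (x : (B₀ ⊗[A₀] X) ⊗[B₀] C₀) : cmap A₀ B₀ C₀ χ x = dmap A₀ B₀ C₀ χ x := by
  induction x using TensorProduct.induction_on with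
  | zero => simp
  | tmul a b => simp [cmap, dmap]
  | add a b ha hb => simp [ha, hb]

lemma cmap_algebraMap {X Y : Type u} [CommRing X] [Algebra A₀ X] [CommRing Y] [Algebra A₀ Y]
    (χ : X →ₐ[A₀] Y) (b : B₀ ⊗[A₀] X) :
    cmap A₀ B₀ C₀ χ (algebraMap (B₀ ⊗[A₀] X) _ b) = algebraMap (B₀ ⊗[A₀] Y) _ (bmap A₀ B₀ χ b) := by
  simp [cmap, Algebra.TensorProduct.algebraMap_apply]

lemma cmap_includeRight {X Y : Type u} [CommRing X] [Algebra A₀ X] [CommRing Y] [Algebra A₀ Y]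
    (χ : X →ₐ[A₀] Y) (c : C₀) :
    cmap A₀ B₀ C₀ χ ((1 : B₀ ⊗[A₀] X) ⊗ₜ c) = (1 : B₀ ⊗[A₀] Y) ⊗ₜ c := by
  simp [cmap]

include hg hker hsurj in
/-- Equations in `C₀`-base changes that hold in the limit hold at a stage. -/
lemma cmap_kill {κ : Type*} [Finite κ] {i : ι} (T : κ → (B₀ ⊗[A₀] G i) ⊗[B₀] C₀)
    (hT : ∀ x, cmap A₀ B₀ C₀ (g i) (T x) = 0) :
    ∃ (k : ι) (χ : G i →ₐ[A₀] G k), (g k).comp χ = g i ∧ ∀ x, cmap A₀ B₀ C₀ χ (T x) = 0 := by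
  classical
  haveI := Fintype.ofFinite κ
  obtain ⟨k, χ, hχ, hk⟩ := double_kill A₀ f g hg hsurj hker B₀ C₀ (Finset.univ.image T) (by
    intro x hx
    obtain ⟨j, -, rfl⟩ := Finset.mem_image.mp hx
    rw [← cmap_eq_dmap]; exact hT j)
  exact ⟨k, χ, hχ, fun x => by rw [cmap_eq_dmap]; exact hk _ (Finset.mem_image_of_mem _ (Finset.mem_univ x))⟩

/-- Elements `1 ⊗ x`, for `x` running over algebra generators, generate the base change. -/
lemma adjoin_one_tmul (T : Type u) [CommRing T] [Algebra B₀ T] (s : Set C₀) (hs : Algebra.adjoin B₀ s = ⊤) :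
    Algebra.adjoin T ((fun c => (1 : T) ⊗ₜ[B₀] c) '' s) = ⊤ := by
  rw [eq_top_iff]
  intro z _
  have key : ∀ c : C₀, (1 : T) ⊗ₜ[B₀] c ∈ Algebra.adjoin T ((fun c => (1 : T) ⊗ₜ[B₀] c) '' s) := by
    intro c
    have hc : c ∈ Algebra.adjoin B₀ s := hs ▸ Algebra.mem_top
    induction hc using Algebra.adjoin_induction with
    | mem y hy => exact Algebra.subset_adjoin ⟨y, hy, rfl⟩
    | algebraMap r =>
      have h1 := (Algebra.TensorProduct.includeRight : C₀ →ₐ[B₀] T ⊗[B₀] C₀).commutes r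
      rw [Algebra.TensorProduct.includeRight_apply, IsScalarTower.algebraMap_apply B₀ T (T ⊗[B₀] C₀)] at h1
      rw [h1]
      exact Subalgebra.algebraMap_mem _ _
    | add a b _ _ ha hb => rw [TensorProduct.tmul_add]; exact add_mem ha hb
    | mul a b _ _ ha hb =>
      rw [show (1 : T) ⊗ₜ[B₀] (a * b) = ((1 : T) ⊗ₜ a) * ((1 : T) ⊗ₜ b) by
        rw [Algebra.TensorProduct.tmul_mul_tmul, one_mul]]
      exact mul_mem ha hb
  induction z using TensorProduct.induction_on with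
  | zero => exact zero_mem _
  | tmul t c =>
    have := Subalgebra.smul_mem _ (key c) t
    rwa [TensorProduct.smul_tmul', smul_eq_mul, mul_one] at this
  | add a b ha hb => exact add_mem (ha Algebra.mem_top) (hb Algebra.mem_top)

/-- Surjectivity on generators. -/
lemma surjective_of_gen (T : Type u) [CommRing T] [Algebra B₀ T] (s : Set C₀) (hs : Algebra.adjoin B₀ s = ⊤)
    (h : ∀ c ∈ s, (1 : T) ⊗ₜ[B₀] c ∈ (algebraMap T (T ⊗[B₀] C₀)).range) :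
    Function.Surjective (algebraMap T (T ⊗[B₀] C₀)) := by
  intro z
  have hz : z ∈ Algebra.adjoin T ((fun c => (1 : T) ⊗ₜ[B₀] c) '' s) := by
    rw [adjoin_one_tmul B₀ C₀ T s hs]; exact Algebra.mem_top
  induction hz using Algebra.adjoin_induction with
  | mem y hy => obtain ⟨c, hc, rfl⟩ := hy; exact h c hc
  | algebraMap r => exact ⟨r, rfl⟩
  | add a b _ _ ha hb =>
    obtain ⟨x, rfl⟩ := ha; obtain ⟨y, rfl⟩ := hb; exact ⟨x + y, map_add _ _ _⟩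
  | mul a b _ _ ha hb =>
    obtain ⟨x, rfl⟩ := ha; obtain ⟨y, rfl⟩ := hb; exact ⟨x * y, map_mul _ _ _⟩

include hg hker hsurj in
/-- Surjectivity in the limit is reached at a stage. -/
lemma surjective_stage [Algebra.FiniteType B₀ C₀]
    (h : Function.Surjective (algebraMap (B₀ ⊗[A₀] A) ((B₀ ⊗[A₀] A) ⊗[B₀] C₀))) :
    ∃ i, ∀ (k : ι) (_ : G i →ₐ[A₀] G k),
      Function.Surjective (algebraMap (B₀ ⊗[A₀] G k) ((B₀ ⊗[A₀] G k) ⊗[B₀] C₀)) := by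
  classical
  obtain ⟨s, hs⟩ := (inferInstance : Algebra.FiniteType B₀ C₀).out
  choose b hb using fun c : s => h ((1 : B₀ ⊗[A₀] A) ⊗ₜ (c : C₀))
  obtain ⟨i, q, hq⟩ := bmap_surj_family A₀ f g hg hsurj B₀ b
  obtain ⟨k, χ, -, hk⟩ := cmap_kill A₀ f g hg hsurj hker B₀ C₀
    (fun c : s => algebraMap (B₀ ⊗[A₀] G i) _ (q c) - (1 : B₀ ⊗[A₀] G i) ⊗ₜ (c : C₀)) (fun c => by
      rw [map_sub, cmap_algebraMap, cmap_includeRight, hq, hb, sub_self])
  refine ⟨k, fun l φ => surjective_of_gen B₀ C₀ _ (s : Set C₀) hs fun c hc => ⟨bmap A₀ B₀ (φ.comp χ) (q ⟨c, hc⟩), ?_⟩⟩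
  have := congrArg (cmap A₀ B₀ C₀ φ) (hk ⟨c, hc⟩)
  rw [map_sub, cmap_algebraMap, cmap_includeRight, map_zero, map_sub, cmap_algebraMap, cmap_includeRight,
    bmap_comp, sub_eq_zero] at this
  exact this

end Algebra

end StageDescentLib
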