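import Groth.Agent.StageDescentLib.Basic

/-! Smoothness and unramifiedness of finite presentations in terms of polynomial witnesses,
and their descent to a stage. -/

set_option autoImplicit false
set_option maxHeartbeats 400000

universe u

open scoped TensorProduct
open MvPolynomial

namespace StageDescentLib

section Witness

variable {B C : Type u} [CommRing B] [CommRing C] [Algebra B C] {n r : ℕ}
  (P : Algebra.Presentation B C (Fin n) (Fin r))

lemma mem_rel_iff (p : MvPolynomial (Fin n) B) :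
    (∃ c : Fin r → MvPolynomial (Fin n) B, ∑ j, c j * P.relation j = p) ↔ aeval P.val p = 0 := by
  rw [← Ideal.mem_span_range_iff_exists_fun, P.span_range_relation_eq_ker, P.ker_eq_ker_aeval_val,
    RingHom.mem_ker]

lemma mem_rel_sq_iff (p : MvPolynomial (Fin n) B) :
    (∃ c : Fin r × Fin r → MvPolynomial (Fin n) B, ∑ ab, c ab * (P.relation ab.1 * P.relation ab.2) = p) ↔
      p ∈ RingHom.ker (aeval (R := B) P.val) ^ 2 := by
  rw [← Ideal.mem_span_range_iff_exists_fun, ← P.ker_eq_ker_aeval_val, ← P.span_range_relation_eq_ker, pow_two,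
    Ideal.span_mul_span']
  congr! 2
  ext x
  simp [Set.mem_mul, eq_comm]

/-- Witness of formal smoothness. -/
def SmoothWitness : Prop :=
  ∃ (h : Fin n → MvPolynomial (Fin n) B) (p : Fin r → Fin r × Fin r → MvPolynomial (Fin n) B)
    (q : Fin n → Fin r → MvPolynomial (Fin n) B),
    (∀ j, ∑ ab, p j ab * (P.relation ab.1 * P.relation ab.2) = aeval h (P.relation j)) ∧
    ∀ l, ∑ j, q l j * P.relation j = h l - X l

/-- Witness of formal unramifiedness. -/
def UnramifiedWitness : Prop :=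
  ∃ (c : Fin n → Fin r → MvPolynomial (Fin n) B) (d : Fin n → Fin n → Fin r → MvPolynomial (Fin n) B),
    ∀ k l, ∑ j, d k l j * P.relation j =
      (∑ j, c k j * pderiv l (P.relation j)) - if l = k then 1 else 0

lemma formallySmooth_iff_witness : Algebra.FormallySmooth B C ↔ SmoothWitness P := by
  let f : MvPolynomial (Fin n) B →ₐ[B] C := aeval P.val
  have hf : Function.Surjective f := P.aeval_val_surjective
  rw [Algebra.FormallySmooth.iff_split_surjection f hf]
  constructor
  · rintro ⟨σ, hσ⟩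
    choose h hh using fun i => Ideal.Quotient.mk_surjective (σ (P.val i))
    have hdiag : (Ideal.Quotient.mkₐ B _).comp (aeval h) = σ.comp (aeval P.val) :=
      MvPolynomial.algHom_ext fun i => by
        simp only [AlgHom.comp_apply, aeval_X]
        exact hh i
    have h1 : ∀ j, aeval h (P.relation j) ∈ RingHom.ker f ^ 2 := fun j => by
      have := AlgHom.congr_fun hdiag (P.relation j)
      simp only [AlgHom.comp_apply, P.aeval_val_relation, map_zero] at this
      exact Ideal.Quotient.eq_zero_iff_mem.mp this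
    choose p hp using fun j => (mem_rel_sq_iff P _).mpr (h1 j)
    have h2 : ∀ l, aeval P.val (h l - X l) = 0 := fun l => by
      rw [map_sub, aeval_X, sub_eq_zero]
      show f (h l) = _
      rw [← AlgHom.kerSquareLift_mk]
      exact (congrArg _ (hh l)).trans (AlgHom.congr_fun hσ (P.val l))
    choose q hq using fun l => (mem_rel_iff P _).mpr (h2 l)
    exact ⟨h, p, q, hp, hq⟩
  · rintro ⟨h, p, q, hp, hq⟩
    let φ : MvPolynomial (Fin n) B →ₐ[B] MvPolynomial (Fin n) B ⧸ RingHom.ker f.toRingHom ^ 2 :=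
      (Ideal.Quotient.mkₐ B _).comp (aeval h)
    have hker : RingHom.ker f ≤ RingHom.ker φ := by
      intro x hx
      obtain ⟨c, rfl⟩ := (mem_rel_iff P x).mpr hx
      rw [RingHom.mem_ker, map_sum]
      refine Finset.sum_eq_zero fun j _ => ?_
      rw [map_mul, show φ (P.relation j) = 0 from
        Ideal.Quotient.eq_zero_iff_mem.mpr ((mem_rel_sq_iff P _).mp ⟨p j, hp j⟩), mul_zero]
    refine ⟨AlgHom.liftOfSurjective f hf φ hker, ?_⟩
    refine (AlgHom.cancel_right hf).mp (MvPolynomial.algHom_ext fun l => ?_)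
    simp only [AlgHom.comp_apply, AlgHom.liftOfSurjective_apply, AlgHom.id_apply]
    have : φ (X l) = Ideal.Quotient.mk _ (h l) := by
      show Ideal.Quotient.mk _ (aeval h (X l)) = _
      rw [aeval_X]
    rw [this]
    refine (AlgHom.kerSquareLift_mk f (h l)).trans ?_
    show aeval P.val (h l) = aeval P.val (X l)
    rw [← sub_eq_zero, ← map_sub]
    exact (mem_rel_iff P _).mp ⟨q l, hq l⟩

lemma repr_cotangentComplex (c : Fin r → MvPolynomial (Fin n) B) (hx : ∑ j, c j * P.relation j ∈ P.ker) (l : Fin n) :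
    P.cotangentSpaceBasis.repr (P.toExtension.cotangentComplex (Algebra.Extension.Cotangent.mk ⟨_, hx⟩)) l =
      aeval P.val (∑ j, c j * pderiv l (P.relation j)) := by
  rw [Algebra.Extension.cotangentComplex_mk]
  refine (P.cotangentSpaceBasis_repr_one_tmul _ l).trans ?_
  simp [map_sum]

lemma subsingleton_iff_witness : Subsingleton Ω[C⁄B] ↔ UnramifiedWitness P := by
  classical
  constructor
  · intro hs
    have key : ∀ k, ∃ c : Fin r → MvPolynomial (Fin n) B, ∀ l, aeval P.val
        ((∑ j, c j * pderiv l (P.relation j)) - if l = k then 1 else 0) = 0 := by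
      intro k
      obtain ⟨x, hx⟩ := (P.toExtension.exact_cotangentComplex_toKaehler (P.cotangentSpaceBasis k)).mp
        (Subsingleton.elim _ _)
      obtain ⟨⟨x, hxk⟩, rfl⟩ := Algebra.Extension.Cotangent.mk_surjective x
      obtain ⟨c, rfl⟩ := Ideal.mem_span_range_iff_exists_fun.mp (P.span_range_relation_eq_ker.ge hxk)
      refine ⟨c, fun l => ?_⟩
      rw [map_sub, ← repr_cotangentComplex P c hxk l]
      rw [hx, Module.Basis.repr_self, Finsupp.single_apply]
      by_cases hlk : l = k <;> simp [hlk, eq_comm (a := k)]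
    choose c hc using key
    choose d hd using fun k l => (mem_rel_iff P _).mpr (hc k l)
    exact ⟨c, d, hd⟩
  · rintro ⟨c, d, hd⟩
    have hz : ∀ k, P.toExtension.toKaehler (P.cotangentSpaceBasis k) = 0 := fun k => by
      refine (P.toExtension.exact_cotangentComplex_toKaehler _).mpr
        ⟨Algebra.Extension.Cotangent.mk ⟨∑ j, c k j * P.relation j,
          Ideal.sum_mem _ fun j _ => Ideal.mul_mem_left _ _ (P.relation_mem_ker j)⟩, ?_⟩
      refine P.cotangentSpaceBasis.repr.injective (Finsupp.ext fun l => ?_)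
      refine (repr_cotangentComplex P (c k) _ l).trans ?_
      rw [Module.Basis.repr_self, Finsupp.single_apply]
      have := (mem_rel_iff P _).mp ⟨d k l, hd k l⟩
      rw [map_sub, sub_eq_zero] at this
      rw [this]
      by_cases hlk : l = k <;> simp [hlk, eq_comm (a := k)]
    have h0 : P.toExtension.toKaehler = 0 := P.cotangentSpaceBasis.ext fun k => by simpa using hz k
    refine ⟨fun a b => ?_⟩
    obtain ⟨a, rfl⟩ := P.toExtension.toKaehler_surjective a
    obtain ⟨b, rfl⟩ := P.toExtension.toKaehler_surjective b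
    simp [h0]

end Witness

section Descent

variable {ι : Type u} [Preorder ι] [IsDirected ι (· ≤ ·)] [Nonempty ι]
    (A₀ : Type u) [CommRing A₀] {G : ι → Type u} [∀ i, CommRing (G i)] [∀ i, Algebra A₀ (G i)]
    (f : ∀ i j, i ≤ j → (G i →ₐ[A₀] G j)) {A : Type u} [CommRing A] [Algebra A₀ A]
    (g : ∀ i, G i →ₐ[A₀] A) (hg : ∀ i j (h : i ≤ j), (g j).comp (f i j h) = g i)
    (hsurj : ∀ a : A, ∃ i, ∃ x : G i, g i x = a)
    (hker : ∀ i (x : G i), g i x = 0 → ∃ j, ∃ h : i ≤ j, f i j h x = 0)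
    (B₀ : Type u) [CommRing B₀] [Algebra A₀ B₀] {C₀ : Type u} [CommRing C₀] [Algebra B₀ C₀]
    {n r : ℕ} (P : Algebra.Presentation B₀ C₀ (Fin n) (Fin r))

/-- The relations over a base change. -/
noncomputable def rel (X : Type u) [CommRing X] [Algebra A₀ X] (j : Fin r) :
    MvPolynomial (Fin n) (B₀ ⊗[A₀] X) :=
  (P.relation j).map (algebraMap B₀ (B₀ ⊗[A₀] X))

lemma qmap_rel {X Y : Type u} [CommRing X] [Algebra A₀ X] [CommRing Y] [Algebra A₀ Y]
    (χ : X →ₐ[A₀] Y) (j : Fin r) : qmap A₀ B₀ χ (rel A₀ B₀ P X j) = rel A₀ B₀ P Y j :=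
  qmap_base A₀ B₀ χ _

include hg hker hsurj in
lemma smoothWitness_descend (h : SmoothWitness (P.baseChange (B₀ ⊗[A₀] A))) :
    ∃ i, SmoothWitness (P.baseChange (B₀ ⊗[A₀] G i)) := by
  classical
  obtain ⟨h, p, q, hp, hq⟩ := h
  obtain ⟨i, y, hy⟩ := poly_surj_family A₀ f g hg hsurj B₀
    (Sum.elim h (Sum.elim (fun x : Fin r × (Fin r × Fin r) => p x.1 x.2)
      (fun x : Fin n × Fin r => q x.1 x.2)))
  let h' : Fin n → MvPolynomial (Fin n) (B₀ ⊗[A₀] G i) := fun l => y (.inl l)
  let p' := fun j ab => y (.inr (.inl (j, ab)))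
  let q' := fun l j => y (.inr (.inr (l, j)))
  let e1 : Fin r → MvPolynomial (Fin n) (B₀ ⊗[A₀] G i) := fun j =>
    (∑ ab, p' j ab * (rel A₀ B₀ P (G i) ab.1 * rel A₀ B₀ P (G i) ab.2)) - aeval h' (rel A₀ B₀ P (G i) j)
  let e2 : Fin n → MvPolynomial (Fin n) (B₀ ⊗[A₀] G i) := fun l =>
    (∑ j, q' l j * rel A₀ B₀ P (G i) j) - (h' l - X l)
  have haev : ∀ {U V : Type u} [CommRing U] [Algebra A₀ U] [CommRing V] [Algebra A₀ V] (χ : U →ₐ[A₀] V)
      (w : Fin n → MvPolynomial (Fin n) (B₀ ⊗[A₀] U)) (t : MvPolynomial (Fin n) (B₀ ⊗[A₀] U)),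
      qmap A₀ B₀ χ (aeval w t) = aeval (fun l => qmap A₀ B₀ χ (w l)) (qmap A₀ B₀ χ t) := by
    intro U V _ _ _ _ χ w t
    induction t using MvPolynomial.induction_on with
    | C a => simp [qmap]
    | add a b ha hb => simp only [map_add, ha, hb]
    | mul_X a l ha => simp only [map_mul, aeval_X, ha]; simp only [qmap, MvPolynomial.map_X, aeval_X]
  obtain ⟨k, χ, -, hk⟩ := poly_kill A₀ f g hg hsurj hker B₀ (Finset.univ.image e1 ∪ Finset.univ.image e2) (by
    intro t ht
    rcases Finset.mem_union.mp ht with ht | ht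
    · obtain ⟨j, _, rfl⟩ := Finset.mem_image.mp ht
      simp only [e1, map_sub, map_sum, map_mul, qmap_rel, haev, h', p', hy, Sum.elim_inl, Sum.elim_inr]
      exact sub_eq_zero.mpr (hp j)
    · obtain ⟨l, _, rfl⟩ := Finset.mem_image.mp ht
      simp only [e2, map_sub, map_sum, map_mul, qmap_rel, h', q', hy, Sum.elim_inl, Sum.elim_inr]
      rw [qmap, MvPolynomial.map_X]
      exact sub_eq_zero.mpr (hq l))
  refine ⟨k, fun l => qmap A₀ B₀ χ (h' l), fun j ab => qmap A₀ B₀ χ (p' j ab),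
    fun l j => qmap A₀ B₀ χ (q' l j), fun j => ?_, fun l => ?_⟩
  · have := hk (e1 j) (Finset.mem_union_left _ (Finset.mem_image_of_mem _ (Finset.mem_univ _)))
    simp only [e1, map_sub, map_sum, map_mul, qmap_rel, haev] at this
    exact sub_eq_zero.mp this
  · have := hk (e2 l) (Finset.mem_union_right _ (Finset.mem_image_of_mem _ (Finset.mem_univ _)))
    simp only [e2, map_sub, map_sum, map_mul, qmap_rel] at this
    rw [show qmap A₀ B₀ χ (X l) = X l from MvPolynomial.map_X _ _] at this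
    exact sub_eq_zero.mp this

include hg hker hsurj in
lemma unramifiedWitness_descend (h : UnramifiedWitness (P.baseChange (B₀ ⊗[A₀] A))) :
    ∃ i, ∀ (k : ι) (χ : G i →ₐ[A₀] G k), UnramifiedWitness (P.baseChange (B₀ ⊗[A₀] G k)) := by
  classical
  obtain ⟨c, d, hd⟩ := h
  obtain ⟨i, y, hy⟩ := poly_surj_family A₀ f g hg hsurj B₀
    (Sum.elim (fun x : Fin n × Fin r => c x.1 x.2) (fun x : Fin n × Fin n × Fin r => d x.1 x.2.1 x.2.2))
  let c' := fun k j => y (.inl (k, j))
  let d' := fun k l j => y (.inr (k, l, j))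
  let e : Fin n × Fin n → MvPolynomial (Fin n) (B₀ ⊗[A₀] G i) := fun x =>
    (∑ j, d' x.1 x.2 j * rel A₀ B₀ P (G i) j) -
      ((∑ j, c' x.1 j * pderiv x.2 (rel A₀ B₀ P (G i) j)) - if x.2 = x.1 then 1 else 0)
  have hpd : ∀ {U V : Type u} [CommRing U] [Algebra A₀ U] [CommRing V] [Algebra A₀ V] (χ : U →ₐ[A₀] V)
      (l : Fin n) (j : Fin r), qmap A₀ B₀ χ (pderiv l (rel A₀ B₀ P U j)) = pderiv l (rel A₀ B₀ P V j) := by
    intro U V _ _ _ _ χ l j
    rw [← qmap_rel A₀ B₀ P χ j, qmap, MvPolynomial.pderiv_map]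
  have hit : ∀ {U V : Type u} [CommRing U] [Algebra A₀ U] [CommRing V] [Algebra A₀ V] (χ : U →ₐ[A₀] V)
      (a b : Fin n), qmap A₀ B₀ χ (if a = b then 1 else 0 : MvPolynomial (Fin n) (B₀ ⊗[A₀] U)) =
        if a = b then 1 else 0 := by
    intro U V _ _ _ _ χ a b
    split_ifs <;> simp
  obtain ⟨m, ψ, -, hk⟩ := poly_kill A₀ f g hg hsurj hker B₀ (Finset.univ.image e) (by
    intro t ht
    obtain ⟨⟨a, b⟩, _, rfl⟩ := Finset.mem_image.mp ht
    simp only [e, map_sub, map_sum, map_mul, qmap_rel, hpd, hit, c', d', hy, Sum.elim_inl, Sum.elim_inr]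
    exact sub_eq_zero.mpr (hd a b))
  refine ⟨m, fun k χ => ⟨fun a j => qmap A₀ B₀ (χ.comp ψ) (c' a j),
    fun a b j => qmap A₀ B₀ (χ.comp ψ) (d' a b j), fun a b => ?_⟩⟩
  have := congrArg (qmap A₀ B₀ χ) (hk (e (a, b)) (Finset.mem_image_of_mem _ (Finset.mem_univ _)))
  rw [qmap_comp, map_zero] at this
  simp only [e, map_sub, map_sum, map_mul, qmap_rel, hpd, hit] at this
  exact sub_eq_zero.mp this

lemma smoothWitness_map {i k : ι} (χ : G i →ₐ[A₀] G k) (h : SmoothWitness (P.baseChange (B₀ ⊗[A₀] G i))) :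
    SmoothWitness (P.baseChange (B₀ ⊗[A₀] G k)) := by
  obtain ⟨h, p, q, hp, hq⟩ := h
  refine ⟨fun l => qmap A₀ B₀ χ (h l), fun j ab => qmap A₀ B₀ χ (p j ab),
    fun l j => qmap A₀ B₀ χ (q l j), fun j => ?_, fun l => ?_⟩
  · have hp' : (∑ ab, p j ab * (rel A₀ B₀ P (G i) ab.1 * rel A₀ B₀ P (G i) ab.2)) =
        aeval h (rel A₀ B₀ P (G i) j) := hp j
    have := congrArg (qmap A₀ B₀ χ) hp'
    rw [show qmap A₀ B₀ χ (aeval h (rel A₀ B₀ P (G i) j)) =
        aeval (fun l => qmap A₀ B₀ χ (h l)) (qmap A₀ B₀ χ (rel A₀ B₀ P (G i) j)) from ?_] at this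
    · simp only [map_sum, map_mul, qmap_rel] at this
      exact this
    · generalize rel A₀ B₀ P (G i) j = t
      induction t using MvPolynomial.induction_on with
      | C a => simp [qmap]
      | add a b ha hb => simp only [map_add, ha, hb]
      | mul_X a l ha => simp only [map_mul, aeval_X, ha]; simp only [qmap, MvPolynomial.map_X, aeval_X]
  · have := congrArg (qmap A₀ B₀ χ) (hq l)
    simp only [map_sum, map_mul, map_sub] at this
    rw [show qmap A₀ B₀ χ (X l) = X l from MvPolynomial.map_X _ _] at this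
    rw [← this]
    exact Finset.sum_congr rfl fun j _ => congrArg _ (qmap_rel A₀ B₀ P χ j).symm

end Descent

end StageDescentLib
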