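import Mathlib

/-! Descent of smooth and etale presentations along directed systems of rings given only by
compatible maps into the colimit (jointly surjective, kernels eventually killed). -/

set_option autoImplicit false
set_option maxHeartbeats 400000

universe u

open scoped TensorProduct

namespace StageDescentLib

variable {ι : Type u} [Preorder ι] [IsDirected ι (· ≤ ·)] [Nonempty ι]
    (A₀ : Type u) [CommRing A₀] {G : ι → Type u} [∀ i, CommRing (G i)] [∀ i, Algebra A₀ (G i)]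
    (f : ∀ i j, i ≤ j → (G i →ₐ[A₀] G j)) {A : Type u} [CommRing A] [Algebra A₀ A]
    (g : ∀ i, G i →ₐ[A₀] A) (hg : ∀ i j (h : i ≤ j), (g j).comp (f i j h) = g i)
    (hsurj : ∀ a : A, ∃ i, ∃ x : G i, g i x = a)
    (hker : ∀ i (x : G i), g i x = 0 → ∃ j, ∃ h : i ≤ j, f i j h x = 0)

include hg hker in
omit [IsDirected ι (· ≤ ·)] [Nonempty ι] in
/-- Finitely many kernel elements are killed by one map of stages. -/
lemma kill_finset {i : ι} (T : Finset (G i)) (hT : ∀ x ∈ T, g i x = 0) :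
    ∃ (k : ι) (χ : G i →ₐ[A₀] G k), (g k).comp χ = g i ∧ ∀ x ∈ T, χ x = 0 := by
  classical
  induction T using Finset.induction_on with
  | empty => exact ⟨i, AlgHom.id _ _, AlgHom.comp_id _, by simp⟩
  | insert a T _ ih =>
    obtain ⟨k, χ, hχ, hk⟩ := ih fun x hx => hT x (Finset.mem_insert_of_mem hx)
    obtain ⟨l, hl, hla⟩ := hker k (χ a) (by
      rw [← AlgHom.comp_apply, hχ]; exact hT a (Finset.mem_insert_self _ _))
    refine ⟨l, (f k l hl).comp χ, by rw [← AlgHom.comp_assoc, hg, hχ], ?_⟩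
    intro x hx
    rcases Finset.mem_insert.mp hx with rfl | hx
    · exact hla
    · rw [AlgHom.comp_apply, hk x hx, map_zero]

include hg hsurj in
/-- Every element of a tensor product with the colimit comes from some stage above a given one. -/
lemma tensor_surj (M : Type u) [AddCommGroup M] [Module A₀ M] (x : M ⊗[A₀] A) (i₀ : ι) :
    ∃ (i : ι) (_ : i₀ ≤ i) (y : M ⊗[A₀] G i), (g i).toLinearMap.lTensor M y = x := by
  induction x using TensorProduct.induction_on with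
  | zero => exact ⟨i₀, le_rfl, 0, map_zero _⟩
  | tmul m a =>
    obtain ⟨i, y, rfl⟩ := hsurj a
    obtain ⟨k, h₀, hik⟩ := directed_of (· ≤ ·) i₀ i
    exact ⟨k, h₀, m ⊗ₜ f i k hik y, by
      rw [LinearMap.lTensor_tmul, AlgHom.toLinearMap_apply, ← AlgHom.comp_apply, hg]⟩
  | add a b ha hb =>
    obtain ⟨i, hi, ya, rfl⟩ := ha
    obtain ⟨j, hj, yb, rfl⟩ := hb
    obtain ⟨k, hik, hjk⟩ := directed_of (· ≤ ·) i j
    refine ⟨k, hi.trans hik,
      (f i k hik).toLinearMap.lTensor M ya + (f j k hjk).toLinearMap.lTensor M yb, ?_⟩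
    rw [map_add, ← LinearMap.lTensor_comp_apply, ← LinearMap.lTensor_comp_apply,
      ← AlgHom.comp_toLinearMap, ← AlgHom.comp_toLinearMap, hg, hg]

open scoped Classical in
lemma finsupp_natural (κ : Type u) {M N : Type u} [AddCommGroup M] [Module A₀ M] [AddCommGroup N]
    [Module A₀ N] (l : M →ₗ[A₀] N) (y : (κ →₀ A₀) ⊗[A₀] M) (k : κ) :
    TensorProduct.finsuppScalarLeft A₀ N κ (l.lTensor _ y) k =
      l (TensorProduct.finsuppScalarLeft A₀ M κ y k) := by
  induction y using TensorProduct.induction_on with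
  | zero => simp
  | tmul p m => simp
  | add a b ha hb => simp [ha, hb]

include hg hker hsurj in
/-- An element of a stage of a tensor product vanishing in the limit is killed by a map of stages. -/
lemma tensor_kill (M : Type u) [AddCommGroup M] [Module A₀ M] (i : ι) (x : M ⊗[A₀] G i)
    (hx : (g i).toLinearMap.lTensor M x = 0) :
    ∃ (k : ι) (χ : G i →ₐ[A₀] G k), (g k).comp χ = g i ∧ χ.toLinearMap.lTensor M x = 0 := by
  classical
  let ℓ : (M →₀ A₀) →ₗ[A₀] M := Finsupp.linearCombination A₀ id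
  have hℓ : Function.Surjective ℓ := Finsupp.linearCombination_id_surjective A₀ M
  have hex : Function.Exact (LinearMap.ker ℓ).subtype ℓ := LinearMap.exact_subtype_ker_map ℓ
  obtain ⟨y, rfl⟩ := LinearMap.rTensor_surjective (G i) hℓ x
  have hcomm : ∀ {N N' : Type u} [AddCommMonoid N] [Module A₀ N] [AddCommMonoid N'] [Module A₀ N']
      {P P' : Type u} [AddCommMonoid P] [Module A₀ P] [AddCommMonoid P'] [Module A₀ P']
      (a : P →ₗ[A₀] P') (b : N →ₗ[A₀] N') (z : P ⊗[A₀] N),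
      b.lTensor P' (a.rTensor N z) = a.rTensor N' (b.lTensor P z) := by
    intro N N' _ _ _ _ P P' _ _ _ _ a b z
    rw [← LinearMap.comp_apply, LinearMap.lTensor_comp_rTensor, ← LinearMap.rTensor_comp_lTensor]
    rfl
  rw [hcomm] at hx
  obtain ⟨w, hw⟩ := (rTensor_exact (R := A₀) (M := ↥(LinearMap.ker ℓ)) (N := M →₀ A₀) (P := M) (f := (LinearMap.ker ℓ).subtype) (g := ℓ) A (by exact hex) hℓ _).mp hx
  obtain ⟨j, hij, w', rfl⟩ := tensor_surj A₀ f g hg hsurj (↥(LinearMap.ker ℓ)) w i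
  let d : (M →₀ A₀) ⊗[A₀] G j := (f i j hij).toLinearMap.lTensor _ y - (LinearMap.ker ℓ).subtype.rTensor _ w'
  let T : Finset (G j) := (Finsupp.support (TensorProduct.finsuppScalarLeft A₀ (G j) M d)).image
    fun m => TensorProduct.finsuppScalarLeft A₀ (G j) M d m
  have hd : (g j).toLinearMap.lTensor _ d = 0 := by
    rw [map_sub, hcomm, hw, ← LinearMap.lTensor_comp_apply, ← AlgHom.comp_toLinearMap, hg, sub_self]
  obtain ⟨k, χ, hχ, hT⟩ := kill_finset A₀ f g hg hker T (by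
    intro z hz
    obtain ⟨m, _, rfl⟩ := Finset.mem_image.mp hz
    rw [← AlgHom.toLinearMap_apply, ← finsupp_natural A₀ M (g j).toLinearMap d m, hd]
    simp)
  have hd' : χ.toLinearMap.lTensor _ d = 0 := by
    refine (TensorProduct.finsuppScalarLeft A₀ (G k) M).injective (Finsupp.ext fun m => ?_)
    rw [finsupp_natural A₀ M χ.toLinearMap d m, map_zero, Finsupp.zero_apply]
    by_cases hm : m ∈ Finsupp.support (TensorProduct.finsuppScalarLeft A₀ (G j) M d)
    · exact hT _ (Finset.mem_image_of_mem _ hm)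
    · rw [Finsupp.notMem_support_iff.mp hm, map_zero]
  refine ⟨k, χ.comp (f i j hij), by rw [← AlgHom.comp_assoc, hχ, hg], ?_⟩
  rw [map_sub, sub_eq_zero] at hd'
  rw [hcomm, AlgHom.comp_toLinearMap, LinearMap.lTensor_comp_apply, hd', hcomm]
  rw [← LinearMap.rTensor_comp_apply, show ℓ ∘ₗ (LinearMap.ker ℓ).subtype = 0 from
    LinearMap.ext fun z => z.2, LinearMap.rTensor_zero, LinearMap.zero_apply]

variable (B₀ : Type u) [CommRing B₀] [Algebra A₀ B₀]

/-- The map of base changes induced by a map of algebras. -/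
noncomputable def bmap {X Y : Type u} [CommRing X] [Algebra A₀ X] [CommRing Y] [Algebra A₀ Y]
    (χ : X →ₐ[A₀] Y) : B₀ ⊗[A₀] X →ₐ[B₀] B₀ ⊗[A₀] Y :=
  Algebra.TensorProduct.map (AlgHom.id B₀ B₀) χ

lemma bmap_eq {X Y : Type u} [CommRing X] [Algebra A₀ X] [CommRing Y] [Algebra A₀ Y]
    (χ : X →ₐ[A₀] Y) (x : B₀ ⊗[A₀] X) : bmap A₀ B₀ χ x = χ.toLinearMap.lTensor B₀ x := by
  induction x using TensorProduct.induction_on with
  | zero => simp
  | tmul b a => simp [bmap]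
  | add a b ha hb => simp [ha, hb]

lemma bmap_comp {X Y Z : Type u} [CommRing X] [Algebra A₀ X] [CommRing Y] [Algebra A₀ Y]
    [CommRing Z] [Algebra A₀ Z] (ψ : Y →ₐ[A₀] Z) (χ : X →ₐ[A₀] Y) (x : B₀ ⊗[A₀] X) :
    bmap A₀ B₀ ψ (bmap A₀ B₀ χ x) = bmap A₀ B₀ (ψ.comp χ) x := by
  rw [bmap_eq, bmap_eq, bmap_eq, AlgHom.comp_toLinearMap, LinearMap.lTensor_comp_apply]

/-- The induced map of polynomial rings. -/
noncomputable def qmap {n : ℕ} {X Y : Type u} [CommRing X] [Algebra A₀ X] [CommRing Y] [Algebra A₀ Y]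
    (χ : X →ₐ[A₀] Y) : MvPolynomial (Fin n) (B₀ ⊗[A₀] X) →+* MvPolynomial (Fin n) (B₀ ⊗[A₀] Y) :=
  MvPolynomial.map (bmap A₀ B₀ χ).toRingHom

lemma qmap_comp {n : ℕ} {X Y Z : Type u} [CommRing X] [Algebra A₀ X] [CommRing Y] [Algebra A₀ Y]
    [CommRing Z] [Algebra A₀ Z] (ψ : Y →ₐ[A₀] Z) (χ : X →ₐ[A₀] Y)
    (p : MvPolynomial (Fin n) (B₀ ⊗[A₀] X)) :
    qmap A₀ B₀ ψ (qmap A₀ B₀ χ p) = qmap A₀ B₀ (ψ.comp χ) p := by
  simp only [qmap, MvPolynomial.map_map]
  rw [show ((bmap A₀ B₀ ψ).toRingHom.comp (bmap A₀ B₀ χ).toRingHom) = (bmap A₀ B₀ (ψ.comp χ)).toRingHom from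
    RingHom.ext fun x => bmap_comp A₀ B₀ ψ χ x]

lemma qmap_base {n : ℕ} {X Y : Type u} [CommRing X] [Algebra A₀ X] [CommRing Y] [Algebra A₀ Y]
    (χ : X →ₐ[A₀] Y) (p : MvPolynomial (Fin n) B₀) :
    qmap A₀ B₀ χ (p.map (algebraMap B₀ (B₀ ⊗[A₀] X))) = p.map (algebraMap B₀ (B₀ ⊗[A₀] Y)) := by
  simp only [qmap, MvPolynomial.map_map]
  rw [show (bmap A₀ B₀ χ).toRingHom.comp (algebraMap B₀ (B₀ ⊗[A₀] X)) = algebraMap B₀ (B₀ ⊗[A₀] Y) from
    (bmap A₀ B₀ χ).comp_algebraMap]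

include hg hsurj in
lemma poly_surj {n : ℕ} (p : MvPolynomial (Fin n) (B₀ ⊗[A₀] A)) (i₀ : ι) :
    ∃ (i : ι) (_ : i₀ ≤ i) (q : MvPolynomial (Fin n) (B₀ ⊗[A₀] G i)), qmap A₀ B₀ (g i) q = p := by
  induction p using MvPolynomial.monomial_add_induction_on generalizing i₀ with
  | C a =>
    obtain ⟨i, hi, y, hy⟩ := tensor_surj A₀ f g hg hsurj B₀ a i₀
    exact ⟨i, hi, MvPolynomial.C y, by simp [qmap, bmap_eq, hy]⟩
  | monomial_add e b p _ _ hp =>
    obtain ⟨i, hi, y, hy⟩ := tensor_surj A₀ f g hg hsurj B₀ b i₀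
    obtain ⟨j, hij, q, rfl⟩ := hp i
    refine ⟨j, hi.trans hij, MvPolynomial.monomial e (bmap A₀ B₀ (f i j hij) y) + q, ?_⟩
    rw [map_add]
    congr 1
    simp only [qmap, MvPolynomial.map_monomial]
    congr 1
    show bmap A₀ B₀ (g j) (bmap A₀ B₀ (f i j hij) y) = b
    rw [bmap_comp, hg, bmap_eq, hy]

include hg hsurj in
lemma poly_surj_family {κ : Type*} [Finite κ] {n : ℕ} (p : κ → MvPolynomial (Fin n) (B₀ ⊗[A₀] A)) :
    ∃ (i : ι) (q : κ → MvPolynomial (Fin n) (B₀ ⊗[A₀] G i)), ∀ k, qmap A₀ B₀ (g i) (q k) = p k := by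
  classical
  obtain ⟨i₀⟩ := ‹Nonempty ι›
  choose i hi q hq using fun k => poly_surj A₀ f g hg hsurj B₀ (p k) i₀
  haveI := Fintype.ofFinite κ
  obtain ⟨j, hj⟩ := Finset.exists_le (Finset.univ.image i)
  refine ⟨j, fun k => qmap A₀ B₀ (f (i k) j (hj _ (by simp))) (q k), fun k => ?_⟩
  rw [qmap_comp, hg, hq]

include hg hker hsurj in
lemma poly_kill {n : ℕ} {i : ι} (T : Finset (MvPolynomial (Fin n) (B₀ ⊗[A₀] G i)))
    (hT : ∀ p ∈ T, qmap A₀ B₀ (g i) p = 0) :
    ∃ (k : ι) (χ : G i →ₐ[A₀] G k), (g k).comp χ = g i ∧ ∀ p ∈ T, qmap A₀ B₀ χ p = 0 := by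
  classical
  suffices ∀ S : Finset (B₀ ⊗[A₀] G i), (∀ x ∈ S, bmap A₀ B₀ (g i) x = 0) →
      ∃ (k : ι) (χ : G i →ₐ[A₀] G k), (g k).comp χ = g i ∧ ∀ x ∈ S, bmap A₀ B₀ χ x = 0 by
    obtain ⟨k, χ, hχ, hS⟩ := this (T.biUnion fun p => p.support.image fun e => p.coeff e) (by
      intro x hx
      obtain ⟨p, hp, hx⟩ := Finset.mem_biUnion.mp hx
      obtain ⟨e, _, rfl⟩ := Finset.mem_image.mp hx
      have := congrArg (MvPolynomial.coeff e) (hT p hp)
      rw [qmap, MvPolynomial.coeff_map, MvPolynomial.coeff_zero] at this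
      exact this)
    refine ⟨k, χ, hχ, fun p hp => MvPolynomial.ext _ _ fun e => ?_⟩
    rw [qmap, MvPolynomial.coeff_map, MvPolynomial.coeff_zero]
    by_cases he : e ∈ p.support
    · exact hS _ (Finset.mem_biUnion.mpr ⟨p, hp, Finset.mem_image_of_mem _ he⟩)
    · rw [MvPolynomial.notMem_support_iff.mp he, map_zero]
  intro S hS
  induction S using Finset.induction_on with
  | empty => exact ⟨i, AlgHom.id _ _, AlgHom.comp_id _, by simp⟩
  | insert a S _ ih =>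
    obtain ⟨k, χ, hχ, hk⟩ := ih fun x hx => hS x (Finset.mem_insert_of_mem hx)
    obtain ⟨l, ψ, hψ, hl⟩ := tensor_kill A₀ f g hg hsurj hker B₀ k (bmap A₀ B₀ χ a) (by
      rw [← bmap_eq, bmap_comp, hχ]; exact hS a (Finset.mem_insert_self _ _))
    refine ⟨l, ψ.comp χ, by rw [← AlgHom.comp_assoc, hψ, hχ], fun x hx => ?_⟩
    rw [← bmap_comp]
    rcases Finset.mem_insert.mp hx with rfl | hx
    · rw [bmap_eq]; exact hl
    · rw [hk x hx, map_zero]

end StageDescentLib
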